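import Mathlib

/-!
# Rigidity for maps into étale separated schemes (helper8)

Two `S`-morphisms `P ⟶ X` into an étale separated `S`-scheme which agree along a section of
`P ⟶ S` are equal as soon as the fibres of `P ⟶ S` are connected.
-/

set_option autoImplicit false

universe u

open CategoryTheory AlgebraicGeometry Limits

namespace Groth.Agent.H8.FCon

theorem eq_of_connected_fibres {S P X : Scheme.{u}} (p : P ⟶ S) (q : X ⟶ S) [Etale q]
    [IsSeparated q] (e : S ⟶ P) (he : e ≫ p = 𝟙 S) (hP : ∀ s : S, ConnectedSpace ↥(p.fiber s))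
    (f g : P ⟶ X) (hf : f ≫ q = p) (hg : g ≫ q = p) (hfg : e ≫ f = e ≫ g) : f = g := by
  have hΔo : IsOpenImmersion (pullback.diagonal q) := inferInstance
  have hΔc : IsClosedImmersion (pullback.diagonal q) := inferInstance
  obtain ⟨Δ, hΔ⟩ : ∃ Δ : X ⟶ pullback q q, Δ = pullback.diagonal q := ⟨_, rfl⟩
  rw [← hΔ] at hΔo hΔc
  have hΔ1 : Δ ≫ pullback.fst q q = 𝟙 X := by rw [hΔ]; exact pullback.diagonal_fst q
  have hΔ2 : Δ ≫ pullback.snd q q = 𝟙 X := by rw [hΔ]; exact pullback.diagonal_snd q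
  obtain ⟨fg, hfg1, hfg2⟩ : ∃ fg : P ⟶ pullback q q, fg ≫ pullback.fst q q = f ∧
      fg ≫ pullback.snd q q = g :=
    ⟨pullback.lift f g (hf.trans hg.symm), pullback.lift_fst _ _ _, pullback.lift_snd _ _ _⟩
  have hcl : IsClopen (Set.range Δ) :=
    ⟨Δ.isClosedEmbedding.isClosed_range, Δ.isOpenEmbedding.isOpen_range⟩
  have hU : IsClopen (fg ⁻¹' (Set.range Δ)) := hcl.preimage fg.continuous
  have hefg : e ≫ fg = (e ≫ f) ≫ Δ := by
    apply pullback.hom_ext
    · rw [Category.assoc, hfg1, Category.assoc, hΔ1, Category.comp_id]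
    · rw [Category.assoc, hfg2, Category.assoc, hΔ2, Category.comp_id, hfg]
  have hall : ∀ x : P, fg x ∈ Set.range Δ := by
    intro x
    haveI := hP (p x)
    haveI : ConnectedSpace ↑(p ⁻¹' {p x}) :=
      (p.fiberHomeo (p x)).surjective.connectedSpace (p.fiberHomeo (p x)).continuous
    have hconn : _root_.IsConnected (p ⁻¹' {p x}) := isConnected_iff_connectedSpace.mpr inferInstance
    have hsub : p ⁻¹' {p x} ⊆ fg ⁻¹' (Set.range Δ) := by
      refine hconn.isPreconnected.subset_isClopen hU ⟨e (p x), ?_, ?_⟩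
      · change p (e (p x)) = p x
        rw [← Scheme.Hom.comp_apply, he]
        first | rfl | simp
      · change fg (e (p x)) ∈ Set.range Δ
        rw [← Scheme.Hom.comp_apply, hefg, Scheme.Hom.comp_apply]
        exact ⟨_, rfl⟩
    exact hsub rfl
  have hrange : Set.range fg ⊆ Set.range Δ := by
    rintro _ ⟨x, rfl⟩
    exact hall x
  have hlift : IsOpenImmersion.lift Δ fg hrange ≫ Δ = fg := IsOpenImmersion.lift_fac Δ fg hrange
  rw [← hfg1, ← hfg2, ← hlift, Category.assoc, Category.assoc, hΔ1, hΔ2]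

end Groth.Agent.H8.FCon
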