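import Mathlib
import Groth.Prelude.Def_NonAbH2
import Groth.Agent.Lib.Helper8.Tors.Pts

/-!
# Finite connected group schemes over a field: points and the counit (helper8)

`G` a finite connected group scheme over a field `K`.  The kernel of the counit of `Γ(G, O)` is
a nil ideal (indeed nilpotent); consequently a `T`-point of `G` becomes trivial after composing
with any `T' ⟶ T` whose comorphism kills the image of that kernel.
-/

set_option autoImplicit false

universe u

open CategoryTheory MonoidalCategory CartesianMonoidalCategory MonObj AlgebraicGeometry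
open scoped TensorProduct

namespace Groth.Agent.H8.FCon

section Alg

/-- `v ⊗ 1 = 1 ⊗ v` in `V ⊗[K] V` forces `v ∈ K`. -/
theorem mem_range_of_tmul_eq {K V : Type*} [Field K] [CommRing V] [Algebra K V] [Nontrivial V]
    (v : V) (h : v ⊗ₜ[K] (1 : V) = (1 : V) ⊗ₜ[K] v) : v ∈ Set.range (algebraMap K V) := by
  have hinj : LinearMap.ker (Algebra.linearMap K V) = ⊥ :=
    LinearMap.ker_eq_bot.mpr (fun a b hab => (algebraMap K V).injective (by simpa using hab))
  obtain ⟨l, hl⟩ := (Algebra.linearMap K V).exists_leftInverse_of_injective hinj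
  have h1 : l 1 = 1 := by
    have := LinearMap.congr_fun hl (1 : K)
    simpa using this
  let m : V ⊗[K] V →ₗ[K] V := (TensorProduct.lid K V).toLinearMap ∘ₗ (LinearMap.rTensor V l)
  have e1 : m (v ⊗ₜ 1) = l v • (1 : V) := by simp [m]
  have e2 : m (1 ⊗ₜ v) = v := by simp [m, h1]
  refine ⟨l v, ?_⟩
  rw [Algebra.algebraMap_eq_smul_one, ← e1, h, e2]

/-- A ring hom with values in the image of `K` factors through `K`. -/
theorem exists_ringHom_of_range {K R V : Type*} [Field K] [CommRing R] [CommRing V] [Algebra K V]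
    [Nontrivial V] (θ : R →+* V) (h : ∀ r, θ r ∈ Set.range (algebraMap K V)) :
    ∃ τ : R →+* K, ∀ r, algebraMap K V (τ r) = θ r := by
  have hinj := (algebraMap K V).injective
  choose t ht using h
  exact ⟨{ toFun := t
           map_one' := hinj (by rw [ht, map_one, map_one])
           map_mul' := fun a b => hinj (by rw [ht, map_mul, map_mul, ht, ht])
           map_zero' := hinj (by rw [ht, map_zero, map_zero])
           map_add' := fun a b => hinj (by rw [ht, map_add, map_add, ht, ht]) }, ht⟩

end Alg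

variable {K : Type u} [Field K] {G : Over (Spec (CommRingCat.of K))} [GrpObj G]

/-- The counit on global sections. -/
noncomputable def counit (G : Over (Spec (CommRingCat.of K))) [GrpObj G] :
    Γ(G.left, ⊤) →+* Γ(Spec (CommRingCat.of K), ⊤) :=
  ((η[G] : 𝟙_ (Over (Spec (CommRingCat.of K))) ⟶ G).left.appTop).hom

lemma counit_str (c : Γ(Spec (CommRingCat.of K), ⊤)) : counit G (G.hom.appTop.hom c) = c := by
  have h : (η[G] : 𝟙_ (Over (Spec (CommRingCat.of K))) ⟶ G).left ≫ G.hom = 𝟙 _ := Over.w η[G]
  have h2 := congrArg (fun f => f.appTop.hom c) h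
  exact h2

theorem isArtinianRing_Γ [IsFinite G.hom] : IsArtinianRing Γ(G.left, ⊤) := by
  let str : K →+* Γ(G.left, ⊤) := ((Scheme.ΓSpecIso (CommRingCat.of K)).inv ≫ G.hom.appTop).hom
  have hfin : str.Finite := by
    have h1 : (G.hom.appTop).hom.Finite := Scheme.Hom.finite_appTop G.hom
    have h2 : ((Scheme.ΓSpecIso (CommRingCat.of K)).inv).hom.Finite :=
      RingHom.Finite.of_surjective _
        (ConcreteCategory.bijective_of_isIso (Scheme.ΓSpecIso (CommRingCat.of K)).inv).2
    exact h1.comp h2
  letI : Algebra K Γ(G.left, ⊤) := str.toAlgebra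
  haveI : Module.Finite K Γ(G.left, ⊤) := hfin
  exact IsArtinianRing.of_finite K _

theorem isNilpotent_of_counit [IsFinite G.hom] [ConnectedSpace G.left] (a : Γ(G.left, ⊤))
    (ha : counit G a = 0) : IsNilpotent a := by
  haveI := isArtinianRing_Γ (G := G)
  haveI : IsAffine G.left := isAffine_of_isAffineHom G.hom
  haveI : ConnectedSpace (PrimeSpectrum Γ(G.left, ⊤)) :=
    Function.Surjective.connectedSpace (f := G.left.isoSpec.hom.base)
      (ConcreteCategory.bijective_of_isIso (G.left.isoSpec.hom.base)).2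
      G.left.isoSpec.hom.continuous
  haveI : Subsingleton (PrimeSpectrum Γ(G.left, ⊤)) := PreconnectedSpace.trivial_of_discrete
  haveI : IsDomain Γ(Spec (CommRingCat.of K), ⊤) :=
    MulEquiv.isDomain (B := K)
      (Scheme.ΓSpecIso (CommRingCat.of K)).commRingCatIsoToRingEquiv.toMulEquiv
  rw [nilpotent_iff_mem_prime]
  intro J hJ
  have hker : (RingHom.ker (counit G)).IsPrime := RingHom.ker_isPrime _
  have h1 : (⟨J, hJ⟩ : PrimeSpectrum _) = ⟨RingHom.ker (counit G), hker⟩ := Subsingleton.elim _ _
  have hJ' : J = RingHom.ker (counit G) := congrArg PrimeSpectrum.asIdeal h1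
  rw [hJ', RingHom.mem_ker]
  exact ha

theorem exists_pow_eq_zero [IsFinite G.hom] [ConnectedSpace G.left] :
    ∃ N : ℕ, ∀ a : Γ(G.left, ⊤), counit G a = 0 → a ^ N = 0 := by
  haveI := isArtinianRing_Γ (G := G)
  obtain ⟨N, hN⟩ := IsArtinianRing.isNilpotent_nilradical (R := Γ(G.left, ⊤))
  refine ⟨N, fun a ha => ?_⟩
  have h1 : a ∈ nilradical Γ(G.left, ⊤) := mem_nilradical.mpr (isNilpotent_of_counit a ha)
  have h2 : a ^ N ∈ (nilradical Γ(G.left, ⊤)) ^ N := Ideal.pow_mem_pow h1 N
  rw [hN] at h2
  simpa using h2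

/-- A `T`-point of `G` becomes trivial after any `φ : T' ⟶ T` killing the image of the
augmentation ideal. -/
theorem comp_eq_one_of_kills [IsFinite G.hom] {T' T : Over (Spec (CommRingCat.of K))}
    (φ : T' ⟶ T) (g : T ⟶ G)
    (h : ∀ a : Γ(G.left, ⊤), counit G a = 0 → φ.left.appTop.hom (g.left.appTop.hom a) = 0) :
    φ ≫ g = 1 := by
  haveI : IsAffine G.left := isAffine_of_isAffineHom G.hom
  apply Over.OverMorphism.ext
  apply ext_of_isAffine
  refine CommRingCat.hom_ext (RingHom.ext fun a => ?_)
  have hdec : a = G.hom.appTop.hom (counit G a) + (a - G.hom.appTop.hom (counit G a)) := by ring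
  have hk : counit G (a - G.hom.appTop.hom (counit G a)) = 0 := by
    rw [map_sub, counit_str, sub_self]
  have h1 : (φ ≫ g).left.appTop.hom a = T'.hom.appTop.hom (counit G a) := by
    have e : (φ ≫ g).left.appTop.hom a = φ.left.appTop.hom (g.left.appTop.hom a) := rfl
    rw [e]
    conv_lhs => rw [hdec]
    rw [map_add, map_add, h _ hk, add_zero]
    have e2 : (φ ≫ g).left ≫ G.hom = T'.hom := Over.w (φ ≫ g)
    have := congrArg (fun f => f.appTop.hom (counit G a)) e2
    exact this
  have h2 : (1 : T' ⟶ G).left.appTop.hom a = T'.hom.appTop.hom (counit G a) := by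
    rw [Hom.one_def]
    rfl
  rw [h1, h2]

variable {X : Over (Spec (CommRingCat.of K))} (a : AlgGrp.Action G X)
  (hpt : NonAbH1.IsPseudoTorsorSch a)

include hpt in
/-- Two `T`-points of a pseudo-torsor agree after any `φ : T' ⟶ T` killing the image of the
augmentation ideal under every `T`-point of `G`. -/
theorem comp_eq_comp_of_kills [IsFinite G.hom] {T' T : Over (Spec (CommRingCat.of K))}
    (φ : T' ⟶ T) (x₁ x₂ : T ⟶ X)
    (h : ∀ (t : T ⟶ G) (c : Γ(G.left, ⊤)), counit G c = 0 →
      φ.left.appTop.hom (t.left.appTop.hom c) = 0) :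
    φ ≫ x₁ = φ ≫ x₂ := by
  have e := Tors.sm_diff a hpt x₁ x₂
  rw [← e, Tors.comp_sm, comp_eq_one_of_kills φ _ (h _), Tors.sm_one]

end Groth.Agent.H8.FCon
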