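import Groth.Agent.Lib.Helper8.FCon.Grp

/-!
# Torsors under finite connected group schemes over a field (helper8)

* `section_of_unramified_point`: a pseudo-torsor with a point in a finite separable (formally
  unramified, essentially of finite type) field extension has a rational point.
* `section_frobenius`: in characteristic `p`, a nonempty pseudo-torsor has a point over the
  `N`-th Frobenius of `K`, where `N` only depends on `G`.
* `trivial_of_etale`, `trivial_of_fppf_perfect`, `frobenius_trivial`: S18317, S18319, S18318.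
-/

set_option autoImplicit false

universe u

open CategoryTheory MonoidalCategory CartesianMonoidalCategory MonObj AlgebraicGeometry
open scoped TensorProduct

namespace Groth.Agent.H8.FCon

variable {K : Type u} [Field K] {G : Over (Spec (CommRingCat.of K))} [GrpObj G]
variable {X : Over (Spec (CommRingCat.of K))} (a : AlgGrp.Action G X)
  (hpt : NonAbH1.IsPseudoTorsorSch a)

include hpt in
/-- The categorical core: two ring maps `A ⟶ B` from an affine chart of `X` agree after `Φ`
as soon as `Φ` kills the augmentation ideal under every `B`-point of `G`. -/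
theorem core [IsFinite G.hom] (A : CommRingCat.{u}) (φA : CommRingCat.of K ⟶ A)
    (jj : Spec A ⟶ X.left) [Mono jj] (hj : jj ≫ X.hom = Spec.map φA)
    (B : CommRingCat.{u}) (φB : CommRingCat.of K ⟶ B) (j₁ j₂ : A ⟶ B)
    (h₁ : φA ≫ j₁ = φB) (h₂ : φA ≫ j₂ = φB)
    (C : CommRingCat.{u}) (Φ : B ⟶ C)
    (hΦ : ∀ (t : Γ(G.left, ⊤) ⟶ B) (c : Γ(G.left, ⊤)), counit G c = 0 →
      Φ.hom (t.hom c) = 0) :
    j₁ ≫ Φ = j₂ ≫ Φ := by
  obtain ⟨T, hT⟩ : ∃ T : Over (Spec (CommRingCat.of K)), T = Over.mk (Spec.map φB) := ⟨_, rfl⟩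
  let T' : Over (Spec (CommRingCat.of K)) := Over.mk (Spec.map Φ ≫ Spec.map φB)
  subst hT
  let φ : T' ⟶ Over.mk (Spec.map φB) := Over.homMk (Spec.map Φ) rfl
  let x₁ : Over.mk (Spec.map φB) ⟶ X := Over.homMk (Spec.map j₁ ≫ jj) (by
    change (Spec.map j₁ ≫ jj) ≫ X.hom = Spec.map φB
    rw [Category.assoc, hj, ← Spec.map_comp, h₁])
  let x₂ : Over.mk (Spec.map φB) ⟶ X := Over.homMk (Spec.map j₂ ≫ jj) (by
    change (Spec.map j₂ ≫ jj) ≫ X.hom = Spec.map φB
    rw [Category.assoc, hj, ← Spec.map_comp, h₂])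
  have key : φ ≫ x₁ = φ ≫ x₂ := by
    apply comp_eq_comp_of_kills a hpt φ x₁ x₂
    intro t c hc
    change (Spec.map Φ).appTop.hom (t.left.appTop.hom c) = 0
    have nat := Scheme.ΓSpecIso_naturality Φ
    have inj : Function.Injective (Scheme.ΓSpecIso C).hom.hom :=
      (ConcreteCategory.bijective_of_isIso (Scheme.ΓSpecIso C).hom).1
    apply inj
    rw [map_zero]
    have e1 : (Scheme.ΓSpecIso C).hom.hom ((Spec.map Φ).appTop.hom (t.left.appTop.hom c)) =
        Φ.hom ((t.left.appTop ≫ (Scheme.ΓSpecIso B).hom).hom c) := by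
      have := congrArg (fun f => f.hom (t.left.appTop.hom c)) nat
      exact this
    rw [e1]
    exact hΦ _ c hc
  have key2 := congrArg (fun f => f.left) key
  change Spec.map Φ ≫ Spec.map j₁ ≫ jj = Spec.map Φ ≫ Spec.map j₂ ≫ jj at key2
  rw [← Category.assoc, ← Category.assoc, cancel_mono, ← Spec.map_comp, ← Spec.map_comp] at key2
  exact Spec.map_injective key2

/-- An affine chart of `X` around a point, as a `K`-algebra. -/
theorem exists_chart (x : X.left) :
    ∃ (A : CommRingCat.{u}) (φA : CommRingCat.of K ⟶ A) (jj : Spec A ⟶ X.left),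
      IsOpenImmersion jj ∧ x ∈ Set.range jj ∧ jj ≫ X.hom = Spec.map φA := by
  obtain ⟨_, ⟨U, hU, rfl⟩, hxU, -⟩ :=
    X.left.isBasis_affineOpens.exists_subset_of_mem_open (Set.mem_univ x) isOpen_univ
  have hU' : IsAffineOpen U := hU
  refine ⟨Γ(X.left, U), Spec.preimage (hU'.fromSpec ≫ X.hom), hU'.fromSpec, inferInstance, ?_,
    (Spec.map_preimage _).symm⟩
  rw [hU'.range_fromSpec]
  exact hxU

include hpt in
/-- A pseudo-torsor with a point in a formally unramified field extension (essentially of finite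
type) has a rational point. -/
theorem section_of_unramified_point [IsFinite G.hom] [ConnectedSpace G.left]
    (L : Type u) [Field L] [Algebra K L] [Algebra.FormallyUnramified K L]
    [Algebra.EssFiniteType K L]
    (z : Spec (CommRingCat.of L) ⟶ X.left)
    (hz : z ≫ X.hom = Spec.map (CommRingCat.ofHom (algebraMap K L))) :
    NonAbH1.HasSectionOver X (𝟙 (Spec (CommRingCat.of K))) := by
  let t₀ : Spec (CommRingCat.of L) := default
  obtain ⟨A, φA, jj, hjo, hxj, hj⟩ := exists_chart (X := X) (z t₀)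
  haveI := hjo
  have hrange : Set.range z ⊆ Set.range jj := by
    rintro _ ⟨t, rfl⟩
    have : t = t₀ := Subsingleton.elim _ _
    rw [this]
    exact hxj
  obtain ⟨z', hz'⟩ : ∃ z' : Spec (CommRingCat.of L) ⟶ Spec A, z' ≫ jj = z :=
    ⟨IsOpenImmersion.lift jj z hrange, IsOpenImmersion.lift_fac jj z hrange⟩
  obtain ⟨ψ, hψ⟩ : ∃ ψ : A ⟶ CommRingCat.of L, Spec.map ψ = z' :=
    ⟨Spec.preimage z', Spec.map_preimage z'⟩
  have hψK : φA ≫ ψ = CommRingCat.ofHom (algebraMap K L) := by
    apply Spec.map_injective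
    rw [Spec.map_comp, hψ, ← hj, ← Category.assoc, hz', hz]
  haveI : IsReduced (L ⊗[K] L) := Algebra.FormallyUnramified.isReduced_of_field L (L ⊗[K] L)
  let i₁ : CommRingCat.of L ⟶ CommRingCat.of (L ⊗[K] L) :=
    CommRingCat.ofHom
      (Algebra.TensorProduct.includeLeft (R := K) (S := K) (A := L) (B := L)).toRingHom
  let i₂ : CommRingCat.of L ⟶ CommRingCat.of (L ⊗[K] L) :=
    CommRingCat.ofHom (Algebra.TensorProduct.includeRight (R := K) (A := L) (B := L)).toRingHom
  have hi₁ : CommRingCat.ofHom (algebraMap K L) ≫ i₁ =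
      CommRingCat.ofHom (algebraMap K (L ⊗[K] L)) := by
    refine CommRingCat.hom_ext (RingHom.ext fun k => ?_)
    exact (Algebra.TensorProduct.includeLeft (R := K) (S := K) (A := L) (B := L)).commutes k
  have hi₂ : CommRingCat.ofHom (algebraMap K L) ≫ i₂ =
      CommRingCat.ofHom (algebraMap K (L ⊗[K] L)) := by
    refine CommRingCat.hom_ext (RingHom.ext fun k => ?_)
    exact (Algebra.TensorProduct.includeRight (R := K) (A := L) (B := L)).commutes k
  have key := core a hpt A φA jj hj (CommRingCat.of (L ⊗[K] L))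
    (CommRingCat.ofHom (algebraMap K (L ⊗[K] L))) (ψ ≫ i₁) (ψ ≫ i₂)
    (by rw [← Category.assoc, hψK, hi₁]) (by rw [← Category.assoc, hψK, hi₂])
    (CommRingCat.of (L ⊗[K] L)) (𝟙 _) (by
      intro t c hc
      change t.hom c = 0
      have hn : IsNilpotent (t.hom c) := (isNilpotent_of_counit c hc).map t.hom
      exact hn.eq_zero)
  rw [Category.comp_id, Category.comp_id] at key
  have hmem : ∀ r : A, ψ.hom r ∈ Set.range (algebraMap K L) := by
    intro r
    apply mem_range_of_tmul_eq
    have := congrArg (fun f => f.hom r) key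
    exact this
  obtain ⟨τ, hτ⟩ := exists_ringHom_of_range (K := K) ψ.hom hmem
  refine ⟨Spec.map (CommRingCat.ofHom τ) ≫ jj, ?_⟩
  rw [Category.assoc, hj, ← Spec.map_comp]
  have : φA ≫ CommRingCat.ofHom τ = 𝟙 _ := by
    refine CommRingCat.hom_ext (RingHom.ext fun k => ?_)
    apply (algebraMap K L).injective
    change algebraMap K L (τ (φA.hom k)) = algebraMap K L k
    rw [hτ]
    have := congrArg (fun f => f.hom k) hψK
    exact this
  rw [this, Spec.map_id]

include hpt in
/-- In characteristic `p`, a nonempty pseudo-torsor has a point over the `N`-th Frobenius. -/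
theorem section_frobenius [IsFinite G.hom] (p : ℕ) [ExpChar K p] (hp : p.Prime)
    (N : ℕ) (hN : ∀ c : Γ(G.left, ⊤), counit G c = 0 → c ^ N = 0) (hne : Nonempty X.left) :
    NonAbH1.HasSectionOver X (Spec.map (CommRingCat.ofHom (iterateFrobenius K p N))) := by
  obtain ⟨x⟩ := hne
  obtain ⟨A, φA, jj, hjo, hxj, hj⟩ := exists_chart (X := X) x
  haveI := hjo
  letI : Algebra K A := φA.hom.toAlgebra
  haveI : Nontrivial A := by
    obtain ⟨y, -⟩ := hxj
    exact PrimeSpectrum.nonempty_iff_nontrivial.mp ⟨y⟩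
  haveI : Nontrivial (A ⊗[K] A) :=
    (Algebra.TensorProduct.lmul' K (S := A)).toRingHom.domain_nontrivial
  haveI : ExpChar (A ⊗[K] A) p :=
    expChar_of_injective_ringHom (algebraMap K (A ⊗[K] A)).injective p
  haveI : ExpChar A p := expChar_of_injective_ringHom (algebraMap K A).injective p
  have hpN : N ≤ p ^ N := (Nat.lt_pow_self hp.one_lt).le
  let i₁ : A ⟶ CommRingCat.of (A ⊗[K] A) :=
    CommRingCat.ofHom
      (Algebra.TensorProduct.includeLeft (R := K) (S := K) (A := A) (B := A)).toRingHom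
  let i₂ : A ⟶ CommRingCat.of (A ⊗[K] A) :=
    CommRingCat.ofHom (Algebra.TensorProduct.includeRight (R := K) (A := A) (B := A)).toRingHom
  have hi₁ : φA ≫ i₁ = CommRingCat.ofHom (algebraMap K (A ⊗[K] A)) := by
    refine CommRingCat.hom_ext (RingHom.ext fun k => ?_)
    exact (Algebra.TensorProduct.includeLeft (R := K) (S := K) (A := A) (B := A)).commutes k
  have hi₂ : φA ≫ i₂ = CommRingCat.ofHom (algebraMap K (A ⊗[K] A)) := by
    refine CommRingCat.hom_ext (RingHom.ext fun k => ?_)
    exact (Algebra.TensorProduct.includeRight (R := K) (A := A) (B := A)).commutes k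
  have key := core a hpt A φA jj hj (CommRingCat.of (A ⊗[K] A))
    (CommRingCat.ofHom (algebraMap K (A ⊗[K] A))) i₁ i₂ hi₁ hi₂
    (CommRingCat.of (A ⊗[K] A)) (CommRingCat.ofHom (iterateFrobenius (A ⊗[K] A) p N)) (by
      intro t c hc
      change iterateFrobenius (A ⊗[K] A) p N (t.hom c) = 0
      rw [iterateFrobenius_def, ← map_pow, ← Nat.sub_add_cancel hpN, pow_add, hN c hc, mul_zero,
        map_zero])
  have hmem : ∀ r : A, iterateFrobenius A p N r ∈ Set.range (algebraMap K A) := by
    intro r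
    apply mem_range_of_tmul_eq
    have := congrArg (fun f => f.hom r) key
    change iterateFrobenius (A ⊗[K] A) p N (r ⊗ₜ 1) = iterateFrobenius (A ⊗[K] A) p N (1 ⊗ₜ r)
      at this
    rw [iterateFrobenius_def, iterateFrobenius_def, Algebra.TensorProduct.tmul_pow,
      Algebra.TensorProduct.tmul_pow, one_pow] at this
    rw [iterateFrobenius_def]
    exact this
  obtain ⟨τ, hτ⟩ := exists_ringHom_of_range (K := K) (iterateFrobenius A p N) hmem
  refine ⟨Spec.map (CommRingCat.ofHom τ) ≫ jj, ?_⟩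
  rw [Category.assoc, hj, ← Spec.map_comp]
  congr 1
  refine CommRingCat.hom_ext (RingHom.ext fun k => ?_)
  apply (algebraMap K A).injective
  change algebraMap K A (τ (algebraMap K A k)) = algebraMap K A (iterateFrobenius K p N k)
  rw [hτ, iterateFrobenius_def, iterateFrobenius_def, map_pow]

/-- A nonempty member of a trivialising covering family. -/
theorem exists_member {P : MorphismProperty Scheme.{u}}
    (h : NonAbH1.IsLocallyTrivialFor (Scheme.precoverage P) X) :
    ∃ (Y : Scheme.{u}) (g : Y ⟶ Spec (CommRingCat.of K)) (σ : Y ⟶ X.left),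
      P g ∧ Nonempty Y ∧ σ ≫ X.hom = g := by
  obtain ⟨R, hR, hsec⟩ := h
  obtain ⟨Y, g, hRg, y, -⟩ := Scheme.JointlySurjective.exists_eq (K := Scheme.precoverage P) R hR
    (default : Spec (CommRingCat.of K))
  obtain ⟨σ, hσ⟩ := hsec g hRg
  exact ⟨Y, g, σ, hR.2 hRg, ⟨y⟩, hσ⟩

/-- A closed point of a nonempty scheme locally of finite type over a field. -/
theorem exists_closed_point {Y : Scheme.{u}} (g : Y ⟶ Spec (CommRingCat.of K))
    [LocallyOfFiniteType g] (hY : Nonempty Y) :
    ∃ (L : Type u) (_ : Field L) (_ : Algebra K L) (w : Spec (CommRingCat.of L) ⟶ Y),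
      w ≫ g = Spec.map (CommRingCat.ofHom (algebraMap K L)) ∧ Algebra.FiniteType K L ∧
      (FormallyUnramified g → Algebra.FormallyUnramified K L) := by
  obtain ⟨y⟩ := hY
  obtain ⟨_, ⟨V, hV, rfl⟩, hyV, -⟩ :=
    Y.isBasis_affineOpens.exists_subset_of_mem_open (Set.mem_univ y) isOpen_univ
  have hV' : IsAffineOpen V := hV
  haveI : Nontrivial Γ(Y, V) := by
    have hy : y ∈ Set.range hV'.fromSpec := by
      rw [hV'.range_fromSpec]
      exact hyV
    obtain ⟨t, -⟩ := hy
    exact PrimeSpectrum.nonempty_iff_nontrivial.mp ⟨t⟩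
  obtain ⟨m, hm⟩ := Ideal.exists_maximal Γ(Y, V)
  letI : Field (Γ(Y, V) ⧸ m) := Ideal.Quotient.field m
  let q : Γ(Y, V) ⟶ CommRingCat.of (Γ(Y, V) ⧸ m) := CommRingCat.ofHom (Ideal.Quotient.mk m)
  haveI : IsClosedImmersion (Spec.map q) :=
    IsClosedImmersion.spec_of_surjective q Ideal.Quotient.mk_surjective
  let w : Spec (CommRingCat.of (Γ(Y, V) ⧸ m)) ⟶ Y := Spec.map q ≫ hV'.fromSpec
  let φ : CommRingCat.of K ⟶ CommRingCat.of (Γ(Y, V) ⧸ m) := Spec.preimage (w ≫ g)
  have hφ : Spec.map φ = w ≫ g := Spec.map_preimage _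
  letI : Algebra K (Γ(Y, V) ⧸ m) := φ.hom.toAlgebra
  refine ⟨Γ(Y, V) ⧸ m, inferInstance, inferInstance, w, hφ.symm, ?_, ?_⟩
  · have : LocallyOfFiniteType (Spec.map φ) := by
      rw [hφ]
      infer_instance
    exact (HasRingHomProperty.Spec_iff (P := @LocallyOfFiniteType)).mp this
  · intro hg
    have hw : FormallyUnramified w := inferInstance
    have : FormallyUnramified (Spec.map φ) := by
      rw [hφ]
      exact MorphismProperty.comp_mem _ w g hw hg
    exact (HasRingHomProperty.Spec_iff (P := @FormallyUnramified)).mp this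

/-- **S18317.** -/
theorem trivial_of_etale [IsFinite G.hom] [ConnectedSpace G.left]
    (h : NonAbH1.IsTorsorFor Scheme.etalePrecoverage a) :
    NonAbH1.HasSectionOver X (𝟙 (Spec (CommRingCat.of K))) := by
  obtain ⟨hpt, hloc⟩ := h
  obtain ⟨Y, g, σ, hg, hY, hσ⟩ := exists_member (P := @Etale) hloc
  haveI : Etale g := hg
  obtain ⟨L, _, _, w, hw, hft, hun⟩ := exists_closed_point g hY
  haveI := hft
  haveI := hun inferInstance
  exact section_of_unramified_point a hpt L (w ≫ σ) (by rw [Category.assoc, hσ, hw])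

/-- **S18319.** -/
theorem trivial_of_fppf_perfect [PerfectField K] [IsFinite G.hom] [ConnectedSpace G.left]
    (h : NonAbH1.IsTorsorFor Scheme.fppfPrecoverage a) :
    NonAbH1.HasSectionOver X (𝟙 (Spec (CommRingCat.of K))) := by
  obtain ⟨hpt, hloc⟩ := h
  obtain ⟨Y, g, σ, hg, hY, hσ⟩ :=
    exists_member (P := @Flat ⊓ @LocallyOfFinitePresentation) hloc
  haveI : LocallyOfFinitePresentation g := hg.2
  obtain ⟨L, _, _, w, hw, hft, -⟩ := exists_closed_point g hY
  haveI := hft
  haveI : Module.Finite K L := finite_of_finite_type_of_isJacobsonRing K L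
  haveI : Algebra.IsSeparable K L := Algebra.IsAlgebraic.isSeparable_of_perfectField
  haveI := Algebra.FormallyUnramified.of_isSeparable K L
  exact section_of_unramified_point a hpt L (w ≫ σ) (by rw [Category.assoc, hσ, hw])

/-- **S18318.** -/
theorem frobenius_trivial (p : ℕ) [ExpChar K p] [IsFinite G.hom] [ConnectedSpace G.left] :
    ∃ n : ℕ, ∀ (X : Over (Spec (CommRingCat.of K))) (a : AlgGrp.Action G X),
      NonAbH1.IsTorsorFor Scheme.fppfPrecoverage a →
      NonAbH1.HasSectionOver X (Spec.map (CommRingCat.ofHom (iterateFrobenius K p n))) := by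
  obtain hp | rfl := expChar_is_prime_or_one K p
  · obtain ⟨N, hN⟩ := exists_pow_eq_zero (G := G)
    refine ⟨N, fun X a h => ?_⟩
    obtain ⟨hpt, hloc⟩ := h
    obtain ⟨Y, g, σ, hg, ⟨y⟩, hσ⟩ :=
      exists_member (P := @Flat ⊓ @LocallyOfFinitePresentation) hloc
    exact section_frobenius a hpt p hp N hN ⟨σ y⟩
  · haveI : CharZero K := charZero_of_expChar_one' K
    refine ⟨0, fun X a h => ?_⟩
    have h0 := trivial_of_fppf_perfect a h
    have e : iterateFrobenius K 1 0 = RingHom.id K := by
      ext x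
      simp [iterateFrobenius_def]
    rw [e]
    have e2 : Spec.map (CommRingCat.ofHom (RingHom.id K)) = 𝟙 (Spec (CommRingCat.of K)) :=
      Spec.map_id _
    rw [e2]
    exact h0

end Groth.Agent.H8.FCon
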